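import Mathlib
import Cfsg.Agent.H77.A2.Table.Data

/-!
The 10500 cosets of the subgroup on x and y³ (generated data).
-/

set_option autoImplicit false
set_option maxRecDepth 100000
set_option linter.all false
set_option Elab.async false

namespace H77
namespace A2
namespace Table

open H93.CosetI

noncomputable section

theorem edge0_0 : data.edgesOK 0 0 1500 = true := by decide +kernel
theorem edge0_1 : data.edgesOK 0 1500 1500 = true := by decide +kernel
theorem edge0_2 : data.edgesOK 0 3000 1500 = true := by decide +kernel
theorem edge0_3 : data.edgesOK 0 4500 1500 = true := by decide +kernel
theorem edge0_4 : data.edgesOK 0 6000 1500 = true := by decide +kernel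
theorem edge0_5 : data.edgesOK 0 7500 1500 = true := by decide +kernel
theorem edge0_6 : data.edgesOK 0 9000 1500 = true := by decide +kernel
theorem treeOK_all : treeOK data 0 10500 = true := by decide +kernel

end

end Table
end A2
end H77
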